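import Mathlib

/-!
# S4829, alternating groups: the number theory (helper960)

* `cases` : for `p ≤ n` some `C(n, k)`, `1 ≤ k ≤ n / 2`, is divisible by `p`, or `n + 1 = a p ^ t`, `1 ≤ a < p`, `1 ≤ t`;
* `choose_p`, `choose_pred` : `C(n, p) ≡ a p ^ (t - 1) - 1` and `C(n, p - 1) ≡ 1` for `n + 1 = a p ^ t`;
* `not_dvd_sub` : `p ∤ C(n, p) - C(n, p - 1)` for `p` odd, `¬ (t = 1 ∧ a = 2)`;
* `two_mul_le` : `2 p ≤ n` in that case.
-/

set_option autoImplicit false

namespace Cfsg.Agent.H960.CY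

/-- all binomial coefficients prime to `p` -/
theorem eq_of_all {p : ℕ} (hp : p.Prime) : ∀ n : ℕ, (∀ k ≤ n, ¬ p ∣ n.choose k) →
    ∃ a t, 1 ≤ a ∧ a < p ∧ n + 1 = a * p ^ t := by
  have : Fact p.Prime := ⟨hp⟩
  intro n
  induction n using Nat.strong_induction_on with
  | _ n ih =>
    intro h
    have h2 := hp.two_le
    by_cases hn : n < p
    · rcases Nat.lt_or_ge (n + 1) p with h1 | h1
      · exact ⟨n + 1, 0, by omega, h1, by simp⟩
      · exact ⟨1, 1, le_rfl, by omega, by rw [pow_one, one_mul]; omega⟩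
    · push Not at hn
      have hmod : n % p = p - 1 := by
        by_contra hne
        have hlt := Nat.mod_lt n hp.pos
        have hk : n % p + 1 ≤ n := by omega
        apply h _ hk
        have h3 := Choose.choose_modEq_choose_mod_mul_choose_div_nat (n := n) (k := n % p + 1) (p := p)
        have h4 : (n % p + 1) % p = n % p + 1 := Nat.mod_eq_of_lt (by omega)
        rw [h4, Nat.choose_succ_self, zero_mul] at h3
        exact (Nat.modEq_zero_iff_dvd).1 h3
      have hdiv : n / p < n := Nat.div_lt_self (by omega) (by omega)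
      obtain ⟨a, t, ha, hap, hat⟩ := ih (n / p) hdiv (by
        intro j hj hd
        apply h (j * p) ((Nat.mul_le_mul_right p hj).trans (Nat.div_mul_le_self n p))
        have h3 := Choose.choose_modEq_choose_mod_mul_choose_div_nat (n := n) (k := j * p) (p := p)
        rw [Nat.mul_mod_left, Nat.choose_zero_right, one_mul, Nat.mul_div_cancel _ hp.pos] at h3
        exact (Nat.modEq_zero_iff_dvd).1 (h3.trans ((Nat.modEq_zero_iff_dvd).2 hd)))
      refine ⟨a, t + 1, ha, hap, ?_⟩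
      have h5 := Nat.div_add_mod n p
      rw [hmod] at h5
      calc n + 1 = p * (n / p) + p := by omega
        _ = (n / p + 1) * p := by ring
        _ = a * p ^ t * p := by rw [hat]
        _ = a * p ^ (t + 1) := by ring

theorem cases {p n : ℕ} (hp : p.Prime) (hn : p ≤ n) :
    (∃ k, 1 ≤ k ∧ 2 * k ≤ n ∧ p ∣ n.choose k) ∨ ∃ a t, 1 ≤ a ∧ a < p ∧ 1 ≤ t ∧ n + 1 = a * p ^ t := by
  by_cases h : ∃ k, 1 ≤ k ∧ 2 * k ≤ n ∧ p ∣ n.choose k
  · exact Or.inl h
  right
  push Not at h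
  obtain ⟨a, t, ha, hap, hat⟩ := eq_of_all hp n (by
    intro k hk hd
    rcases Nat.eq_zero_or_pos k with rfl | hk0
    · rw [Nat.choose_zero_right] at hd
      exact hp.one_lt.ne' (Nat.dvd_one.1 hd)
    by_cases h2 : 2 * k ≤ n
    · exact h k hk0 h2 hd
    · rcases Nat.eq_or_lt_of_le hk with rfl | hkn
      · rw [Nat.choose_self] at hd
        exact hp.one_lt.ne' (Nat.dvd_one.1 hd)
      · rw [← Nat.choose_symm hk] at hd
        exact h (n - k) (by omega) (by omega) hd)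
  refine ⟨a, t, ha, hap, ?_, hat⟩
  rcases Nat.eq_zero_or_pos t with rfl | ht
  · rw [pow_zero, mul_one] at hat
    omega
  · exact ht

section

variable {p n a t : ℕ} (hp : p.Prime) (ha : 1 ≤ a) (ht : 1 ≤ t) (hn : n + 1 = a * p ^ t)

include hp ha ht hn

theorem div_mod : n % p = p - 1 ∧ n / p + 1 = a * p ^ (t - 1) := by
  obtain ⟨s, rfl⟩ : ∃ s, t = s + 1 := ⟨t - 1, by omega⟩
  have h1 : n + 1 = (a * p ^ s) * p := by rw [hn]; ring
  have h0 : 1 ≤ a * p ^ s := Nat.mul_pos ha (Nat.pow_pos hp.pos)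
  obtain ⟨m, hm⟩ : ∃ m, a * p ^ s = m + 1 := ⟨a * p ^ s - 1, by omega⟩
  have h2 : n = (p - 1) + p * m := by
    rw [hm] at h1
    have h3 : (m + 1) * p = p * m + p := by ring
    have := hp.pos
    omega
  have h4 : p - 1 < p := Nat.sub_lt hp.pos Nat.one_pos
  constructor
  · rw [h2, Nat.add_mul_mod_self_left, Nat.mod_eq_of_lt h4]
  · rw [Nat.add_sub_cancel, hm, h2, Nat.add_mul_div_left _ _ hp.pos, Nat.div_eq_of_lt h4, zero_add]

theorem choose_p : n.choose p + 1 ≡ a * p ^ (t - 1) [MOD p] := by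
  have : Fact p.Prime := ⟨hp⟩
  obtain ⟨h1, h2⟩ := div_mod hp ha ht hn
  have h3 := Choose.choose_modEq_choose_mod_mul_choose_div_nat (n := n) (k := p) (p := p)
  rw [Nat.mod_self, Nat.choose_zero_right, one_mul, Nat.div_self hp.pos, Nat.choose_one_right] at h3
  rw [← h2]
  exact h3.add_right 1

theorem choose_pred : n.choose (p - 1) ≡ 1 [MOD p] := by
  have : Fact p.Prime := ⟨hp⟩
  obtain ⟨h1, -⟩ := div_mod hp ha ht hn
  have h3 := Choose.choose_modEq_choose_mod_mul_choose_div_nat (n := n) (k := p - 1) (p := p)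
  have h4 : p - 1 < p := Nat.sub_lt hp.pos Nat.one_pos
  rw [h1, Nat.mod_eq_of_lt h4, Nat.choose_self, Nat.div_eq_of_lt h4, Nat.choose_zero_right, mul_one] at h3
  exact h3

theorem not_dvd_sub (hap : a < p) (hp2 : p ≠ 2) (h2 : ¬ (t = 1 ∧ a = 2)) (h1 : ¬ (t = 1 ∧ a = 1)) :
    ¬ (p : ℤ) ∣ (n.choose p : ℤ) - (n.choose (p - 1) : ℤ) := by
  intro hd
  have hp3 : 3 ≤ p := by
    have := hp.two_le
    omega
  have h3 : ((n.choose p : ℤ) + 1) ≡ (a * p ^ (t - 1) : ℕ) [ZMOD p] := by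
    have := (Int.natCast_modEq_iff).2 (choose_p hp ha ht hn)
    push_cast at this ⊢
    exact this
  have h4 : (n.choose (p - 1) : ℤ) ≡ 1 [ZMOD p] := by
    have := (Int.natCast_modEq_iff).2 (choose_pred hp ha ht hn)
    exact_mod_cast this
  have h5 : (p : ℤ) ∣ ((a * p ^ (t - 1) : ℕ) : ℤ) - 2 := by
    have h6 := h3.dvd
    have h7 := h4.dvd
    have h8 : ((a * p ^ (t - 1) : ℕ) : ℤ) - 2 = (((a * p ^ (t - 1) : ℕ) : ℤ) - ((n.choose p : ℤ) + 1)) +
      ((n.choose p : ℤ) - (n.choose (p - 1) : ℤ)) - (1 - (n.choose (p - 1) : ℤ)) := by ring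
    rw [h8]
    exact dvd_sub (dvd_add h6 hd) h7
  rcases Nat.lt_or_ge t 2 with ht2 | ht2
  · have ht1 : t = 1 := by omega
    subst ht1
    rw [Nat.sub_self, pow_zero, mul_one] at h5
    have ha3 : 3 ≤ a := by omega
    have h6 : ((a : ℤ) - 2) = ((a - 2 : ℕ) : ℤ) := by omega
    rw [h6, Int.natCast_dvd_natCast] at h5
    exact absurd (Nat.le_of_dvd (by omega) h5) (by omega)
  · obtain ⟨s, rfl⟩ : ∃ s, t = s + 2 := ⟨t - 2, by omega⟩
    have h6 : (p : ℤ) ∣ ((a * p ^ (s + 2 - 1) : ℕ) : ℤ) := by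
      rw [Int.natCast_dvd_natCast]
      have : s + 2 - 1 = s + 1 := by omega
      rw [this, pow_succ, ← mul_assoc]
      exact dvd_mul_left p _
    have h7 : (p : ℤ) ∣ 2 := by
      have h8 : (2 : ℤ) = ((a * p ^ (s + 2 - 1) : ℕ) : ℤ) - (((a * p ^ (s + 2 - 1) : ℕ) : ℤ) - 2) := by ring
      rw [h8]
      exact dvd_sub h6 h5
    have h9 : p ∣ 2 := by exact_mod_cast h7
    exact absurd (Nat.le_of_dvd (by norm_num) h9) (by omega)

theorem two_mul_le (hp2 : p ≠ 2) (h2 : ¬ (t = 1 ∧ a = 2)) (h1 : ¬ (t = 1 ∧ a = 1)) : 2 * p ≤ n := by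
  have hp3 : 3 ≤ p := by
    have := hp.two_le
    omega
  rcases Nat.lt_or_ge t 2 with ht2 | ht2
  · have ht1 : t = 1 := by omega
    subst ht1
    have ha3 : 3 ≤ a := by omega
    rw [pow_one] at hn
    have : 3 * p ≤ a * p := Nat.mul_le_mul_right p ha3
    omega
  · have h3 : p ^ 2 ≤ p ^ t := Nat.pow_le_pow_right hp.pos ht2
    have h4 : p ^ t ≤ a * p ^ t := Nat.le_mul_of_pos_left _ ha
    have h5 : 3 * p ≤ p ^ 2 := by rw [sq]; exact Nat.mul_le_mul_right p hp3
    omega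

end

end Cfsg.Agent.H960.CY
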